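import Mathlib.Algebra.Category.Ring.Under.Basic
import Mathlib.RingTheory.FinitePresentation
import Mathlib.RingTheory.RingHom.FinitePresentation
import Mathlib.CategoryTheory.Limits.IsLimit
import Mathlib.CategoryTheory.Filtered.Basic
import Mathlib.CategoryTheory.Category.Preorder
import Mathlib.Algebra.MvPolynomial.Rename

/-! Every algebra is a filtered colimit of finitely presented algebras. -/

set_option autoImplicit false
universe u

namespace Groth.Agent.ColimFP

open CategoryTheory Limits MvPolynomial

variable (R A : Type u) [CommRing R] [CommRing A] [Algebra R A]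

/-- Finitely many generators and finitely many relations among them. -/
structure Idx : Type u where
  gens : Finset A
  rels : Finset (MvPolynomial {x // x ∈ gens} R)
  ok : ∀ g ∈ rels, aeval (fun x : {x // x ∈ gens} => (x : A)) g = 0

variable {R A}

/-- inclusion of variables -/
def incl {s s' : Finset A} (h : s ⊆ s') (x : {x // x ∈ s}) : {x // x ∈ s'} := ⟨x.1, h x.2⟩

instance : LE (Idx R A) :=
  ⟨fun i j => ∃ h : i.gens ⊆ j.gens, ∀ g ∈ i.rels, rename (incl h) g ∈ j.rels⟩

instance : Preorder (Idx R A) where
  le_refl i := ⟨subset_rfl, fun g hg => by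
    rw [show incl (subset_rfl : i.gens ⊆ i.gens) = id from rfl, rename_id]; exact hg⟩
  le_trans i j k := fun ⟨h, h'⟩ ⟨g, g'⟩ => ⟨h.trans g, fun x hx => by
    have := g' _ (h' x hx)
    rwa [rename_rename] at this⟩

noncomputable def alg (i : Idx R A) : Type u :=
  MvPolynomial {x // x ∈ i.gens} R ⧸ Ideal.span (i.rels : Set (MvPolynomial {x // x ∈ i.gens} R))

noncomputable instance (i : Idx R A) : CommRing (alg i) := inferInstanceAs (CommRing (_ ⧸ _))
noncomputable instance (i : Idx R A) : Algebra R (alg i) := inferInstanceAs (Algebra R (_ ⧸ _))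

/-- generator -/
noncomputable def gen (i : Idx R A) (x : {x // x ∈ i.gens}) : alg i := Ideal.Quotient.mk _ (X x)

theorem alg_ext {i : Idx R A} {B : Type u} [CommRing B] [Algebra R B] {f g : alg i →ₐ[R] B}
    (h : ∀ x, f (gen i x) = g (gen i x)) : f = g :=
  Ideal.Quotient.algHom_ext R (MvPolynomial.algHom_ext h)

noncomputable def trans {i j : Idx R A} (h : i ≤ j) : alg i →ₐ[R] alg j :=
  Ideal.Quotient.liftₐ _ ((Ideal.Quotient.mkₐ R _).comp (rename (incl h.choose))) (fun x hx => by
    refine (Ideal.span_le.mpr ?_ : _ ≤ RingHom.ker ((Ideal.Quotient.mkₐ R _).comp (rename (incl h.choose))).toRingHom) hx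
    intro g hg
    exact Ideal.Quotient.eq_zero_iff_mem.mpr (Ideal.subset_span (h.choose_spec g hg)))

theorem trans_gen {i j : Idx R A} (h : i ≤ j) (x : {x // x ∈ i.gens}) :
    trans h (gen i x) = gen j (incl h.choose x) := by
  show Ideal.Quotient.mk _ (rename _ (X x)) = _
  rw [rename_X]; rfl

noncomputable def toA (i : Idx R A) : alg i →ₐ[R] A :=
  Ideal.Quotient.liftₐ _ (aeval fun x : {x // x ∈ i.gens} => (x : A)) (fun x hx =>
    (Ideal.span_le.mpr (fun g hg => i.ok g hg) : _ ≤ RingHom.ker (aeval fun x : {x // x ∈ i.gens} => (x : A)).toRingHom) hx)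

theorem toA_gen (i : Idx R A) (x : {x // x ∈ i.gens}) : toA i (gen i x) = x := aeval_X _ x

variable (R A) in
noncomputable def diag : Idx R A ⥤ Under (CommRingCat.of R) where
  obj i := CommRingCat.mkUnder (CommRingCat.of R) (alg i)
  map {i j} f := (trans (leOfHom f)).toUnder
  map_id i := by
    have : trans (leOfHom (𝟙 i)) = AlgHom.id R (alg i) := alg_ext fun x => trans_gen _ x
    ext a
    exact AlgHom.congr_fun this a
  map_comp {i j k} f g := by
    have : trans (leOfHom (f ≫ g)) = (trans (leOfHom g)).comp (trans (leOfHom f)) := alg_ext fun x => by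
      rw [AlgHom.comp_apply, trans_gen, trans_gen, trans_gen]; rfl
    ext a
    exact AlgHom.congr_fun this a

variable (R A) in
noncomputable def cocone : Cocone (diag R A) where
  pt := CommRingCat.mkUnder (CommRingCat.of R) A
  ι :=
    { app := fun i => (toA i).toUnder
      naturality := fun i j f => by
        have : (toA j).comp (trans (leOfHom f)) = toA i := alg_ext fun x => by
          rw [AlgHom.comp_apply, trans_gen, toA_gen, toA_gen]; rfl
        ext a
        exact AlgHom.congr_fun this a }

noncomputable def bot : Idx R A := ⟨∅, ∅, by simp⟩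

instance : Nonempty (Idx R A) := ⟨bot⟩

instance : IsDirectedOrder (Idx R A) := ⟨fun i j => by
  classical
  refine ⟨⟨i.gens ∪ j.gens,
    i.rels.image (rename (incl Finset.subset_union_left)) ∪ j.rels.image (rename (incl Finset.subset_union_right)), ?_⟩,
    ⟨Finset.subset_union_left, fun g hg => Finset.mem_union_left _ (Finset.mem_image_of_mem _ hg)⟩,
    ⟨Finset.subset_union_right, fun g hg => Finset.mem_union_right _ (Finset.mem_image_of_mem _ hg)⟩⟩
  intro g hg
  rcases Finset.mem_union.mp hg with h | h <;> obtain ⟨g', hg', rfl⟩ := Finset.mem_image.mp h <;> rw [aeval_rename]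
  · exact i.ok g' hg'
  · exact j.ok g' hg'⟩

noncomputable def single (a : A) : Idx R A := ⟨{a}, ∅, by simp⟩

noncomputable instance (priority := 10) algPt (s : Cocone (diag R A)) : Algebra R s.pt.right := s.pt.hom.hom.toAlgebra

/-- a leg of a cocone as an algebra map -/
noncomputable def leg (s : Cocone (diag R A)) (i : Idx R A) : alg i →ₐ[R] s.pt.right :=
  { (s.ι.app i).right.hom with
    commutes' := fun r => congrArg (fun f : CommRingCat.of R ⟶ s.pt.right => f r) (Under.w (s.ι.app i)) }

theorem leg_apply (s : Cocone (diag R A)) (i : Idx R A) (a : alg i) : leg s i a = (s.ι.app i).right a := rfl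

theorem leg_gen (s : Cocone (diag R A)) {i j : Idx R A} (h : i ≤ j) (x : {x // x ∈ i.gens}) :
    leg s i (gen i x) = leg s j (gen j (incl h.choose x)) := by
  rw [← trans_gen h]
  rw [leg_apply, leg_apply, ← s.w (homOfLE h)]
  rfl

theorem leg_eq (s : Cocone (diag R A)) (i : Idx R A) (x : {x // x ∈ i.gens}) :
    leg s i (gen i x) =
      leg s (single x.1) (gen (single x.1) ⟨x.1, Finset.mem_singleton_self _⟩) := by
  have h : single x.1 ≤ i := ⟨Finset.singleton_subset_iff.mpr x.2, fun g hg => absurd hg (Finset.notMem_empty g)⟩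
  rw [leg_gen s h]
  rfl

/-- the map out of `A` determined by a cocone -/
noncomputable def descPoly (s : Cocone (diag R A)) : MvPolynomial A R →ₐ[R] s.pt :=
  aeval fun a => leg s (single a) (gen (single a) ⟨a, Finset.mem_singleton_self _⟩)

theorem descPoly_ker (s : Cocone (diag R A)) (p : MvPolynomial A R) (hp : aeval (id : A → A) p = 0) :
    descPoly s p = 0 := by
  classical
  obtain ⟨t, q, rfl⟩ := exists_finset_rename p
  rw [aeval_rename] at hp
  let i : Idx R A := ⟨t, {q}, by intro g hg; rw [Finset.mem_singleton.mp hg]; exact hp⟩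
  have h : (descPoly s).comp (rename ((↑) : {x // x ∈ t} → A)) =
      (leg s i).comp (Ideal.Quotient.mkₐ R _) := MvPolynomial.algHom_ext fun x => by
    show descPoly s (rename _ (X x)) = leg s i (gen i x)
    rw [rename_X, leg_eq s i x]
    exact aeval_X _ _
  refine (AlgHom.congr_fun h q).trans ?_
  have hq : (Ideal.Quotient.mk (Ideal.span ((({q} : Finset _)) : Set (MvPolynomial {x // x ∈ t} R))) q) = 0 :=
    Ideal.Quotient.eq_zero_iff_mem.mpr (Ideal.subset_span (Finset.mem_singleton_self q))
  exact (congrArg (leg s i) hq).trans (map_zero _)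

theorem aeval_id_surjective : Function.Surjective (aeval (R := R) (id : A → A)) := fun a => ⟨X a, aeval_X _ a⟩

noncomputable def descAlg (s : Cocone (diag R A)) : A →ₐ[R] s.pt :=
  AlgHom.liftOfSurjective (aeval (id : A → A)) aeval_id_surjective (descPoly s)
    (fun p hp => descPoly_ker s p hp)

theorem descAlg_apply (s : Cocone (diag R A)) (a : A) :
    descAlg s a = leg s (single a) (gen (single a) ⟨a, Finset.mem_singleton_self _⟩) := by
  have h1 : descAlg s (aeval (id : A → A) (X a)) = descPoly s (X a) :=
    AlgHom.liftOfSurjective_apply _ _ _ _ _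
  rw [aeval_X] at h1
  exact h1.trans (aeval_X _ a)

variable (R A) in
noncomputable def isColimit : IsColimit (cocone R A) where
  desc s := Under.homMk (CommRingCat.ofHom (descAlg s).toRingHom) (CommRingCat.hom_ext (RingHom.ext fun r => (descAlg s).commutes r))
  fac s i := by
    have : (descAlg s).comp (toA i) = leg s i := alg_ext fun x => by
      rw [AlgHom.comp_apply, toA_gen, descAlg_apply, leg_eq s i x]
    ext a
    exact AlgHom.congr_fun this a
  uniq s m hm := by
    refine CommRingCat.mkUnder_ext fun (a : A) => ?_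
    have h := congrArg (fun f : (diag R A).obj (single a) ⟶ s.pt => f.right (gen (single a) ⟨a, Finset.mem_singleton_self _⟩)) (hm (single a))
    exact ((congrArg m.right (toA_gen (single a) ⟨a, Finset.mem_singleton_self _⟩)).symm.trans h).trans (descAlg_apply s a).symm

theorem finitePresentation (i : Idx R A) : Algebra.FinitePresentation R (alg i) :=
  Algebra.FinitePresentation.quotient ⟨i.rels, rfl⟩

end Groth.Agent.ColimFP
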